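import Cfsg.Agent.OddOrderLocal.SylIn

/-!
# Conjugacy of cyclic subgroups of order 40 (helper733)
-/

set_option autoImplicit false

namespace Cfsg.Agent.H733.JM.ConjAbs

open Subgroup Cfsg.Agent.OddOrderLocal.SylIn

variable {G : Type*} [Group G]

theorem isPGroup_zpowers_of {p n : ℕ} {a : G} (h : orderOf a = p ^ n) : IsPGroup p (zpowers a) := by
  by_cases hp : p = 0
  · subst hp
    intro x
    obtain ⟨k, hk⟩ := mem_zpowers_iff.1 x.2
    rcases Nat.eq_zero_or_pos n with h0 | h0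
    · subst h0
      refine ⟨0, Subtype.ext ?_⟩
      rw [pow_zero, orderOf_eq_one_iff] at h
      rw [pow_zero, pow_one, ← hk, h, one_zpow]
      rfl
    · refine ⟨1, ?_⟩
      rw [pow_one, pow_zero]
  · intro x
    refine ⟨n, ?_⟩
    obtain ⟨k, hk⟩ := mem_zpowers_iff.1 x.2
    apply Subtype.ext
    show (x : G) ^ p ^ n = 1
    rw [← hk, ← h, ← zpow_natCast, ← zpow_mul, mul_comm, zpow_mul, zpow_natCast, pow_orderOf_eq_one, one_zpow]

variable [Finite G]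

/-- two elements of order 40 of `N` are conjugate up to powers -/
theorem exists_conj_mem {N : Subgroup G} (h5 : ¬ 25 ∣ Nat.card N)
    (h2 : ∀ D : Subgroup G, D ≤ N → IsPGroup 2 D → ∀ a ∈ D, ∀ b ∈ D, orderOf a = 8 → orderOf b = 8 → b ∈ zpowers a)
    {t t' : G} (ht : t ∈ N) (ht' : t' ∈ N) (ho : orderOf t = 40) (ho' : orderOf t' = 40) :
    ∃ n ∈ N, n * t' * n⁻¹ ∈ zpowers t := by
  have f5 : Fact (Nat.Prime 5) := ⟨by norm_num⟩
  have f2 : Fact (Nat.Prime 2) := ⟨Nat.prime_two⟩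
  have h8 : ∀ s : G, orderOf s = 40 → orderOf (s ^ 8) = 5 := by
    intro s hs
    rw [orderOf_pow, hs]
    norm_num
  have h5' : ∀ s : G, orderOf s = 40 → orderOf (s ^ 5) = 8 := by
    intro s hs
    rw [orderOf_pow, hs]
    norm_num
  have hsyl : ∀ s ∈ N, orderOf s = 40 → IsSyl 5 (zpowers (s ^ 8)) N := by
    intro s hs hs40
    have hle : zpowers (s ^ 8) ≤ N := zpowers_le.2 (N.pow_mem hs 8)
    refine ⟨hle, isPGroup_zpowers_of (n := 1) (by rw [h8 s hs40, pow_one]), fun hd => h5 ?_⟩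
    have h := card_mul_relIndex hle
    rw [Nat.card_zpowers, h8 s hs40] at h
    obtain ⟨c, hc⟩ := hd
    exact ⟨c, by rw [← h, hc]; ring⟩
  obtain ⟨x, hx, hxe⟩ := (hsyl t' ht' ho').exists_conj (hsyl t ht ho)
  have hmem : x * t' ^ 8 * x⁻¹ ∈ zpowers (t ^ 8) := by
    rw [← hxe]
    exact ⟨t' ^ 8, mem_zpowers _, rfl⟩
  set t1 := x * t' * x⁻¹ with ht1
  have ht1N : t1 ∈ N := N.mul_mem (N.mul_mem hx ht') (N.inv_mem hx)
  have ho1 : orderOf t1 = 40 := by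
    rw [← ho']
    exact MulEquiv.orderOf_eq (MulAut.conj x) t'
  have h18 : t1 ^ 8 ∈ zpowers (t ^ 8) := by
    rw [ht1, conj_pow]
    exact hmem
  have heq : zpowers (t1 ^ 8) = zpowers (t ^ 8) := by
    apply Subgroup.eq_of_le_of_card_ge (zpowers_le.2 h18)
    rw [Nat.card_zpowers, Nat.card_zpowers, h8 t ho, h8 t1 ho1]
  set L := N ⊓ centralizer {t ^ 8} with hL
  have htL : t ∈ L := mem_inf.2 ⟨ht, mem_centralizer_singleton_iff.2 (Commute.self_pow t 8).eq⟩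
  have ht1L : t1 ∈ L := by
    refine mem_inf.2 ⟨ht1N, mem_centralizer_singleton_iff.2 ?_⟩
    have h1 : t ^ 8 ∈ zpowers (t1 ^ 8) := by rw [heq]; exact mem_zpowers _
    obtain ⟨k, hk⟩ := mem_zpowers_iff.1 h1
    rw [← hk]
    exact (((Commute.refl t1).pow_right 8).zpow_right k).eq
  obtain ⟨D, hD, haD⟩ := exists_isSyl_ge (p := 2) (X := L) (zpowers_le.2 (L.pow_mem htL 5))
    (isPGroup_zpowers_of (p := 2) (n := 3) (by rw [h5' t ho]; norm_num))
  obtain ⟨y, hy, hyD⟩ := hD.exists_conj_le (Q := zpowers (t1 ^ 5)) (zpowers_le.2 (L.pow_mem ht1L 5))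
    (isPGroup_zpowers_of (p := 2) (n := 3) (by rw [h5' t1 ho1]; norm_num))
  have hyN : y ∈ N := (mem_inf.1 hy).1
  have hb : y * t1 ^ 5 * y⁻¹ ∈ D := hyD ⟨t1 ^ 5, mem_zpowers _, rfl⟩
  have hob : orderOf (y * t1 ^ 5 * y⁻¹) = 8 := by
    rw [← h5' t1 ho1]
    exact MulEquiv.orderOf_eq (MulAut.conj y) (t1 ^ 5)
  have h3 := h2 D (hD.le.trans inf_le_left) hD.isPGroup (t ^ 5) (haD (mem_zpowers _)) _ hb (h5' t ho) hob
  have h4 : y * t1 ^ 5 * y⁻¹ ∈ zpowers t := (zpowers_le.2 ((zpowers t).pow_mem (mem_zpowers t) 5)) h3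
  have h6 : y * t1 ^ 8 * y⁻¹ ∈ zpowers t := by
    obtain ⟨k, hk⟩ := mem_zpowers_iff.1 h18
    have h7 : y * (t ^ 8) ^ k * y⁻¹ = (t ^ 8) ^ k := by
      have h8 : Commute y (t ^ 8) := mem_centralizer_singleton_iff.1 (mem_inf.1 hy).2
      rw [(h8.zpow_right k).eq, mul_inv_cancel_right]
    rw [← hk, h7]
    exact (zpowers t).zpow_mem ((zpowers t).pow_mem (mem_zpowers t) 8) k
  refine ⟨y * x, N.mul_mem hyN hx, ?_⟩
  have e : y * x * t' * (y * x)⁻¹ = (y * t1 ^ 5 * y⁻¹) ^ (-3 : ℤ) * (y * t1 ^ 8 * y⁻¹) ^ (2 : ℤ) := by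
    rw [conj_zpow, conj_zpow]
    have e1 : y * (t1 ^ 5) ^ (-3 : ℤ) * y⁻¹ * (y * (t1 ^ 8) ^ (2 : ℤ) * y⁻¹) = y * t1 * y⁻¹ := by group
    rw [e1, ht1]
    group
  rw [e]
  exact (zpowers t).mul_mem ((zpowers t).zpow_mem h4 _) ((zpowers t).zpow_mem h6 _)

omit [Finite G] in
theorem closure_le {P : Subgroup G} {t t' w w' : G} (h1 : t' ∈ zpowers t) (h2 : w⁻¹ * w' ∈ zpowers t) :
    closure ((P : Set G) ∪ {t', w'}) ≤ closure ((P : Set G) ∪ {t, w}) := by
  have ht : t ∈ closure ((P : Set G) ∪ {t, w}) := subset_closure (Or.inr (Or.inl rfl))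
  have hw : w ∈ closure ((P : Set G) ∪ {t, w}) := subset_closure (Or.inr (Or.inr rfl))
  rw [Subgroup.closure_le]
  rintro x (hx | rfl | rfl)
  · exact subset_closure (Or.inl hx)
  · exact (zpowers_le.2 ht) h1
  · have e : x = w * (w⁻¹ * x) := by group
    rw [e]
    exact mul_mem hw ((zpowers_le.2 ht) h2)

/-- **two subgroups with the same `P` and the same torus** -/
theorem closure_eq {P : Subgroup G} {t t' w w' : G} {k : ℤ} (ho : orderOf t = orderOf t') (h1 : t' ∈ zpowers t)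
    (hw : w * t * w⁻¹ = t ^ k) (hw' : w' * t' * w'⁻¹ = t' ^ k) (hC : centralizer {t} ≤ zpowers t) :
    closure ((P : Set G) ∪ {t', w'}) = closure ((P : Set G) ∪ {t, w}) := by
  have heq : zpowers t' = zpowers t := by
    apply Subgroup.eq_of_le_of_card_ge (zpowers_le.2 h1)
    rw [Nat.card_zpowers, Nat.card_zpowers, ho]
  have h2 : t ∈ zpowers t' := by rw [heq]; exact mem_zpowers t
  obtain ⟨j, hj⟩ := mem_zpowers_iff.1 h2
  have h3 : w' * t * w'⁻¹ = t ^ k := by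
    rw [← hj, ← conj_zpow, hw', ← zpow_mul, ← zpow_mul, mul_comm]
  have h4 : w⁻¹ * w' ∈ zpowers t := by
    apply hC
    rw [mem_centralizer_singleton_iff]
    have h5 : w' * t = t ^ k * w' := by rw [← h3]; group
    have h6 : w⁻¹ * t ^ k = t * w⁻¹ := by rw [← hw]; group
    calc w⁻¹ * w' * t = w⁻¹ * (w' * t) := by group
      _ = w⁻¹ * t ^ k * w' := by rw [h5]; group
      _ = t * (w⁻¹ * w') := by rw [h6]; group
  apply le_antisymm (closure_le h1 h4)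
  apply closure_le h2
  have e : w'⁻¹ * w = (w⁻¹ * w')⁻¹ := by group
  rw [e, heq]
  exact (zpowers t).inv_mem h4

end Cfsg.Agent.H733.JM.ConjAbs
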