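import Mathlib

/-!
# Elements of order eight of `GL₂(3)` (helper733)
-/

set_option autoImplicit false

namespace Cfsg.Agent.H733.JM.GLTwoThree

open Matrix

/-- the product on quadruples -/
def mul4 (x y : ZMod 3 × ZMod 3 × ZMod 3 × ZMod 3) : ZMod 3 × ZMod 3 × ZMod 3 × ZMod 3 :=
  (x.1 * y.1 + x.2.1 * y.2.2.1, x.1 * y.2.1 + x.2.1 * y.2.2.2,
    x.2.2.1 * y.1 + x.2.2.2 * y.2.2.1, x.2.2.1 * y.2.1 + x.2.2.2 * y.2.2.2)

/-- the entries -/
def ent (M : Matrix (Fin 2) (Fin 2) (ZMod 3)) : ZMod 3 × ZMod 3 × ZMod 3 × ZMod 3 :=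
  (M 0 0, M 0 1, M 1 0, M 1 1)

theorem ent_injective : Function.Injective ent := by
  intro M N h
  simp only [ent, Prod.mk.injEq] at h
  ext i j
  fin_cases i <;> fin_cases j <;> simp [h]

theorem ent_mul (M N : Matrix (Fin 2) (Fin 2) (ZMod 3)) : ent (M * N) = mul4 (ent M) (ent N) := by
  simp [ent, mul4, Matrix.mul_apply, Fin.sum_univ_two]

/-- squaring -/
def sq4 (x : ZMod 3 × ZMod 3 × ZMod 3 × ZMod 3) := mul4 x x

theorem ent_sq (M : Matrix (Fin 2) (Fin 2) (ZMod 3)) : ent (M ^ 2) = sq4 (ent M) := by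
  rw [pow_two, ent_mul]
  rfl

theorem ent_four (M : Matrix (Fin 2) (Fin 2) (ZMod 3)) : ent (M ^ 4) = sq4 (sq4 (ent M)) := by
  rw [show (4 : ℕ) = 2 * 2 by norm_num, pow_mul, ent_sq, ent_sq]

theorem ent_eight (M : Matrix (Fin 2) (Fin 2) (ZMod 3)) : ent (M ^ 8) = sq4 (sq4 (sq4 (ent M))) := by
  rw [show (8 : ℕ) = 4 * 2 by norm_num, pow_mul, ent_sq, ent_four]

theorem ent_sixteen (M : Matrix (Fin 2) (Fin 2) (ZMod 3)) : ent (M ^ 16) = sq4 (sq4 (sq4 (sq4 (ent M)))) := by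
  rw [show (16 : ℕ) = 8 * 2 by norm_num, pow_mul, ent_sq, ent_eight]

/-- the unit -/
def one4 : ZMod 3 × ZMod 3 × ZMod 3 × ZMod 3 := (1, 0, 0, 1)

theorem ent_one : ent 1 = one4 := by decide

/-- the elements of order 8 -/
def o8 (x : ZMod 3 × ZMod 3 × ZMod 3 × ZMod 3) : Bool := (sq4 (sq4 (sq4 x)) == one4) && !(sq4 (sq4 x) == one4)

/-- the check for two elements -/
def ck (x y : ZMod 3 × ZMod 3 × ZMod 3 × ZMod 3) : Bool :=
  !(o8 y) || !(sq4 (sq4 (sq4 (sq4 (mul4 x y)))) == one4) || (y == x) || (y == mul4 (sq4 x) x) ||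
    (y == mul4 (sq4 (sq4 x)) x) || (y == mul4 (sq4 (sq4 x)) (mul4 (sq4 x) x))

theorem key' : ∀ a b c d : ZMod 3, o8 (a, b, c, d) = true → ∀ e f g h : ZMod 3, ck (a, b, c, d) (e, f, g, h) = true := by
  decide +kernel

theorem ck_spec {x y : ZMod 3 × ZMod 3 × ZMod 3 × ZMod 3} (h : ck x y = true) (hy : o8 y = true)
    (h5 : sq4 (sq4 (sq4 (sq4 (mul4 x y)))) = one4) :
    y = x ∨ y = mul4 (sq4 x) x ∨ y = mul4 (sq4 (sq4 x)) x ∨ y = mul4 (sq4 (sq4 x)) (mul4 (sq4 x) x) := by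
  unfold ck at h
  simp only [Bool.or_eq_true] at h
  rcases h with ((((h | h) | h) | h) | h) | h
  · rw [hy] at h
    exact absurd h (by decide)
  · rw [h5, beq_self_eq_true] at h
    exact absurd h (by decide)
  · exact Or.inl (beq_iff_eq.1 h)
  · exact Or.inr (Or.inl (beq_iff_eq.1 h))
  · exact Or.inr (Or.inr (Or.inl (beq_iff_eq.1 h)))
  · exact Or.inr (Or.inr (Or.inr (beq_iff_eq.1 h)))

theorem key (x : ZMod 3 × ZMod 3 × ZMod 3 × ZMod 3) (h1 : sq4 (sq4 (sq4 x)) = one4) (h2 : sq4 (sq4 x) ≠ one4)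
    (y : ZMod 3 × ZMod 3 × ZMod 3 × ZMod 3) (h3 : sq4 (sq4 (sq4 y)) = one4) (h4 : sq4 (sq4 y) ≠ one4)
    (h5 : sq4 (sq4 (sq4 (sq4 (mul4 x y)))) = one4) :
    y = x ∨ y = mul4 (sq4 x) x ∨ y = mul4 (sq4 (sq4 x)) x ∨ y = mul4 (sq4 (sq4 x)) (mul4 (sq4 x) x) := by
  have hx : o8 x = true := by
    unfold o8
    rw [Bool.and_eq_true, beq_iff_eq, Bool.not_eq_true', beq_eq_false_iff_ne]
    exact ⟨h1, h2⟩
  have hy : o8 y = true := by
    unfold o8
    rw [Bool.and_eq_true, beq_iff_eq, Bool.not_eq_true', beq_eq_false_iff_ne]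
    exact ⟨h3, h4⟩
  exact ck_spec (key' x.1 x.2.1 x.2.2.1 x.2.2.2 hx y.1 y.2.1 y.2.2.1 y.2.2.2) hy h5

/-- **elements of order 8 in a common 2-subgroup** -/
theorem mem_zpowers {g h : GL (Fin 2) (ZMod 3)} (hg : orderOf g = 8) (hh : orderOf h = 8) (hgh : (g * h) ^ 16 = 1) :
    h ∈ Subgroup.zpowers g := by
  have conv : ∀ (x : GL (Fin 2) (ZMod 3)) (n : ℕ), x ^ n = 1 ↔ ent ((x : Matrix (Fin 2) (Fin 2) (ZMod 3)) ^ n) = one4 := by
    intro x n
    rw [← ent_one, ent_injective.eq_iff, ← Units.val_pow_eq_pow_val, Units.val_eq_one]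
  have h8 : ∀ x : GL (Fin 2) (ZMod 3), orderOf x = 8 → sq4 (sq4 (sq4 (ent x))) = one4 ∧ sq4 (sq4 (ent x)) ≠ one4 := by
    intro x hx
    constructor
    · rw [← ent_eight, ← conv, ← hx]
      exact pow_orderOf_eq_one x
    · intro h4
      rw [← ent_four, ← conv] at h4
      have := orderOf_dvd_of_pow_eq_one h4
      rw [hx] at this
      norm_num at this
  have h16 : sq4 (sq4 (sq4 (sq4 (mul4 (ent g) (ent h))))) = one4 := by
    rw [← ent_mul, ← ent_sixteen, ← Units.val_mul, ← conv]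
    exact hgh
  have fin : ∀ n : ℕ, ent h = ent ((g : Matrix (Fin 2) (Fin 2) (ZMod 3)) ^ n) → h ∈ Subgroup.zpowers g := by
    intro n hn
    have h1 : h = g ^ n := by
      apply Units.ext
      rw [Units.val_pow_eq_pow_val]
      exact ent_injective hn
    rw [h1]
    exact Subgroup.pow_mem _ (Subgroup.mem_zpowers g) n
  rcases key (ent g) (h8 g hg).1 (h8 g hg).2 (ent h) (h8 h hh).1 (h8 h hh).2 h16 with h1 | h1 | h1 | h1
  · exact fin 1 (by rw [h1, pow_one])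
  · exact fin 3 (by rw [h1, pow_succ _ 2, ent_mul, ent_sq])
  · exact fin 5 (by rw [h1, pow_succ _ 4, ent_mul, ent_four])
  · exact fin 7 (by
      rw [h1, pow_add _ 4 3, pow_succ _ 2, ent_mul, ent_mul, ent_four, ent_sq])

end Cfsg.Agent.H733.JM.GLTwoThree
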