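import Mathlib

/-!
# Automorphisms of order a power of two of an elementary abelian group of order 8 (helper733)
-/

set_option autoImplicit false

namespace Cfsg.Agent.H733.JM.Oct

section lin

variable {V : Type*} [AddCommGroup V] [Module (ZMod 2) V] [Finite V]

/-- the linear combinations of `v`, `D v`, `D (D v)` -/
def Φ (D : V →ₗ[ZMod 2] V) (v : V) : (ZMod 2 × ZMod 2 × ZMod 2) → V :=
  fun c => c.1 • v + c.2.1 • D v + c.2.2 • D (D v)

theorem zero_or_one (c : ZMod 2) : c = 0 ∨ c = 1 := by
  fin_cases c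
  · exact Or.inl rfl
  · exact Or.inr rfl

omit [Finite V] in
theorem Φ_injective {D : V →ₗ[ZMod 2] V} {v : V} (h2 : D (D v) ≠ 0) (h3 : ∀ x, D (D (D x)) = 0) :
    Function.Injective (Φ D v) := by
  have key : ∀ c : ZMod 2 × ZMod 2 × ZMod 2, Φ D v c = 0 → c = 0 := by
    rintro ⟨i, j, k⟩ h
    have h' : i • v + j • D v + k • D (D v) = 0 := h
    have e1 : i • D (D v) = 0 := by
      have := congrArg (fun x => D (D x)) h'
      simpa [map_add, map_smul, h3] using this
    have hi : i = 0 := (smul_eq_zero.1 e1).resolve_right h2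
    subst hi
    have e2 : j • D (D v) = 0 := by
      have := congrArg D h'
      simpa [map_add, map_smul, h3] using this
    have hj : j = 0 := (smul_eq_zero.1 e2).resolve_right h2
    subst hj
    have e3 : k • D (D v) = 0 := by simpa using h'
    have hk : k = 0 := (smul_eq_zero.1 e3).resolve_right h2
    subst hk
    rfl
  intro c c' h
  have h1 : Φ D v (c - c') = 0 := by
    have e : Φ D v (c - c') = Φ D v c - Φ D v c' := by
      simp only [Φ, Prod.fst_sub, Prod.snd_sub, sub_smul]
      abel
    rw [e, h, sub_self]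
  exact sub_eq_zero.1 (key _ h1)

theorem Φ_surjective (hV : Nat.card V = 8) {D : V →ₗ[ZMod 2] V} {v : V} (h2 : D (D v) ≠ 0)
    (h3 : ∀ x, D (D (D x)) = 0) : Function.Surjective (Φ D v) := by
  have h1 := Φ_injective h2 h3
  have hb := (Nat.bijective_iff_injective_and_card (Φ D v)).2 ⟨h1, by
    rw [hV, Nat.card_prod, Nat.card_prod, Nat.card_zmod]⟩
  exact hb.2

/-- a nilpotent endomorphism of a space of dimension three -/
theorem cube_zero (hV : Nat.card V = 8) {D : V →ₗ[ZMod 2] V} (h : D ^ 8 = 0) (x : V) : D (D (D x)) = 0 := by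
  have hfr : Module.finrank (ZMod 2) V = 3 := by
    have := Fintype.ofFinite V
    have h1 := Module.card_eq_pow_finrank (K := ZMod 2) (V := V)
    rw [← Nat.card_eq_fintype_card, hV, ZMod.card] at h1
    exact (Nat.pow_right_injective le_rfl (h1.symm.trans (by norm_num : (8 : ℕ) = 2 ^ 3)))
  have h1 := Module.End.ker_pow_le_ker_pow_finrank D 8
  rw [hfr, h] at h1
  have h2 : x ∈ LinearMap.ker (D ^ 3) := h1 (by rw [LinearMap.mem_ker]; rfl)
  exact LinearMap.mem_ker.1 h2

/-- the kernel has order at most two -/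
theorem card_ker_le (hV : Nat.card V = 8) {D : V →ₗ[ZMod 2] V} {v : V} (h2 : D (D v) ≠ 0)
    (h3 : ∀ x, D (D (D x)) = 0) : Nat.card {x : V // D x = 0} ≤ 2 := by
  have h4 : ∀ x : {x : V // D x = 0}, ∃ k : ZMod 2, (x : V) = k • D (D v) := by
    rintro ⟨x, hx⟩
    obtain ⟨⟨i, j, k⟩, rfl⟩ := Φ_surjective hV h2 h3 x
    refine ⟨k, ?_⟩
    have e : Φ D v (0, i, j) = Φ D v (0, 0, 0) := by
      have h5 : D (i • v + j • D v + k • D (D v)) = 0 := hx
      rw [map_add, map_add, map_smul, map_smul, map_smul, h3, smul_zero, add_zero] at h5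
      show (0 : ZMod 2) • v + i • D v + j • D (D v) = (0 : ZMod 2) • v + (0 : ZMod 2) • D v + (0 : ZMod 2) • D (D v)
      rw [zero_smul, zero_add, h5]
      simp
    have h6 := Φ_injective h2 h3 e
    simp only [Prod.mk.injEq, true_and] at h6
    show i • v + j • D v + k • D (D v) = _
    rw [h6.1, h6.2]
    simp
  choose f hf using h4
  have h5 : Function.Injective f := by
    intro x y h
    apply Subtype.ext
    rw [hf, hf, h]
  have h6 := Nat.card_le_card_of_injective f h5
  rwa [Nat.card_zmod] at h6

/-- the number of injective endomorphisms commuting with `D` -/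
theorem card_comm_le (hV : Nat.card V = 8) {D : V →ₗ[ZMod 2] V} {v : V} (h2 : D (D v) ≠ 0)
    (h3 : ∀ x, D (D (D x)) = 0) {I : Type*} (B : I → (V →ₗ[ZMod 2] V)) (hB : Function.Injective B)
    (hBi : ∀ i, Function.Injective (B i)) (hBD : ∀ i x, B i (D x) = D (B i x)) : Nat.card I ≤ 4 := by
  have h4 : ∀ a : I, ∃ c : ZMod 2 × ZMod 2, B a v = Φ D v (1, c) := by
    intro a
    obtain ⟨⟨i, j, k⟩, h⟩ := Φ_surjective hV h2 h3 (B a v)
    refine ⟨(j, k), ?_⟩
    have hi : i = 1 := by
      rcases zero_or_one i with hi | hi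
      · exfalso
        apply h2
        apply hBi a
        rw [hBD, hBD, ← h, map_zero]
        show D (D (i • v + j • D v + k • D (D v))) = 0
        rw [hi]
        simp [map_add, map_smul, h3]
      · exact hi
    rw [← h, hi]
  choose f hf using h4
  have h5 : Function.Injective f := by
    intro a b h
    apply hB
    ext x
    obtain ⟨⟨i, j, k⟩, rfl⟩ := Φ_surjective hV h2 h3 x
    have h6 : B a v = B b v := by rw [hf, hf, h]
    show B a (i • v + j • D v + k • D (D v)) = B b (i • v + j • D v + k • D (D v))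
    simp only [map_add, map_smul, hBD, h6]
  have h6 := Nat.card_le_card_of_injective f h5
  rwa [Nat.card_prod, Nat.card_zmod] at h6

end lin

section grp

variable {Z : Type*} [CommGroup Z] [Finite Z]

/-- the endomorphism of the additive group -/
def E [Module (ZMod 2) (Additive Z)] (f : Z →* Z) : Additive Z →ₗ[ZMod 2] Additive Z :=
  AddMonoidHom.toZModLinearMap 2 (MonoidHom.toAdditive f)

theorem main (hZ : Nat.card Z = 8) (hz2 : ∀ z : Z, z * z = 1) {α : MulAut Z} (h8 : α ^ 8 = 1) (h2 : α ^ 2 ≠ 1) :
    Nat.card {z : Z // α z = z} ≤ 2 ∧ Nat.card (Subgroup.centralizer {α} : Subgroup (MulAut Z)) ≤ 4 := by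
  let _ : Module (ZMod 2) (Additive Z) := AddCommGroup.zmodModule (n := 2) (fun x => by
    rw [two_nsmul]
    exact hz2 x.toMul)
  have hadd : ∀ x : Additive Z, x + x = 0 := fun x => hz2 x.toMul
  have hV : Nat.card (Additive Z) = 8 := hZ
  let A : Module.End (ZMod 2) (Additive Z) := E α.toMonoidHom
  have hA : ∀ x, A x = Additive.ofMul (α x.toMul) := fun x => rfl
  have hAp : ∀ (n : ℕ) (x), (A ^ n) x = Additive.ofMul ((α ^ n) x.toMul) := by
    intro n
    induction n with
    | zero => intro x; rfl
    | succ n ih =>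
      intro x
      rw [pow_succ, Module.End.mul_apply, ih, hA, pow_succ, MulAut.mul_apply]
      rfl
  have hA8 : A ^ 8 = 1 := by
    ext x
    rw [hAp, h8]
    rfl
  have hchar : CharP (Module.End (ZMod 2) (Additive Z)) 2 := by
    apply CharTwo.of_one_ne_zero_of_two_eq_zero
    · intro h
      have h1 : Subsingleton (Additive Z) := by
        constructor
        intro a b
        have e1 : a = (1 : Module.End (ZMod 2) (Additive Z)) a := rfl
        have e2 : b = (1 : Module.End (ZMod 2) (Additive Z)) b := rfl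
        rw [e1, e2, h]
        rfl
      have h3 := Nat.card_of_subsingleton (0 : Additive Z)
      rw [hV] at h3
      omega
    · have e : (2 : Module.End (ZMod 2) (Additive Z)) = 1 + 1 := one_add_one_eq_two.symm
      refine e.trans (LinearMap.ext fun x => ?_)
      exact hadd x
  let D : Additive Z →ₗ[ZMod 2] Additive Z := A - 1
  have hD : ∀ x, D x = A x - x := fun x => rfl
  have hD8 : D ^ 8 = 0 := by
    have h1 : (A - 1) ^ 2 ^ 3 = A ^ 2 ^ 3 - 1 ^ 2 ^ 3 := sub_pow_char_pow_of_commute _ _ (Commute.one_right A)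
    have h3 : (A - 1) ^ 8 = 0 := by
      rw [show (8 : ℕ) = 2 ^ 3 by norm_num, h1, show (2 : ℕ) ^ 3 = 8 by norm_num, hA8, one_pow, sub_self]
    exact h3
  have h3 := cube_zero hV hD8
  obtain ⟨v, hv⟩ : ∃ v, D (D v) ≠ 0 := by
    by_contra hcon
    push Not at hcon
    apply h2
    ext z
    have h4 := hcon (Additive.ofMul z)
    rw [hD, hD, map_sub] at h4
    have h5 : (A ^ 2) (Additive.ofMul z) = Additive.ofMul z := by
      rw [pow_two, Module.End.mul_apply]
      have h6 : A (A (Additive.ofMul z)) - A (Additive.ofMul z) - (A (Additive.ofMul z) - Additive.ofMul z) =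
        A (A (Additive.ofMul z)) + Additive.ofMul z - (A (Additive.ofMul z) + A (Additive.ofMul z)) := by abel
      rw [h6, hadd, sub_zero] at h4
      have h7 := hadd (Additive.ofMul z)
      exact add_right_cancel (h4.trans h7.symm)
    rw [hAp] at h5
    exact h5
  constructor
  · refine le_trans (le_of_eq ?_) (card_ker_le hV hv h3)
    refine Nat.card_congr (Equiv.subtypeEquiv (Additive.ofMul) fun z => ?_)
    rw [hD, sub_eq_zero]
    rfl
  · refine card_comm_le hV hv h3 (I := (Subgroup.centralizer {α} : Subgroup (MulAut Z)))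
      (fun β => E (β : MulAut Z).toMonoidHom) ?_ ?_ ?_
    · intro β γ h
      apply Subtype.ext
      ext z
      exact congrArg (fun f : Additive Z →ₗ[ZMod 2] Additive Z => f (Additive.ofMul z)) h
    · intro β x y h
      exact (β : MulAut Z).injective h
    · intro β x
      have h4 : (β : MulAut Z) * α = α * (β : MulAut Z) := Subgroup.mem_centralizer_singleton_iff.1 β.2
      show Additive.ofMul ((β : MulAut Z) (α x.toMul / x.toMul)) = Additive.ofMul (α ((β : MulAut Z) x.toMul) /
        (β : MulAut Z) x.toMul)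
      rw [map_div]
      have h5 : (β : MulAut Z) (α x.toMul) = α ((β : MulAut Z) x.toMul) := by
        rw [← MulAut.mul_apply, ← MulAut.mul_apply, h4]
      rw [h5]

end grp

end Cfsg.Agent.H733.JM.Oct
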